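import Mathlib

set_option linter.style.haveILetI false
set_option linter.unusedVariables false
set_option linter.unusedSectionVars false
set_option autoImplicit false
set_option backward.isDefEq.respectTransparency.types false

universe u

/-! helper7: Zariski main theorem when O_Y = f_* O_X: the relative normalization is the target and the quasi-finite locus is the preimage of an open over which the morphism is an isomorphism -/

namespace Groth.Agent.Helper7.ZMTIso

open CategoryTheory AlgebraicGeometry

/-- an affine morphism which is bijective on sections over all affine opens is an isomorphism -/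
theorem isIso_of_app_bijective_affine {X Y : Scheme.{u}} (f : Y ⟶ X) [IsAffineHom f]
    (h : ∀ V : X.Opens, IsAffineOpen V → Function.Bijective (f.app V)) : IsIso f := by
  rw [← MorphismProperty.isomorphisms.iff,
    HasAffineProperty.iff_of_iSup_eq_top (P := MorphismProperty.isomorphisms Scheme)
      (fun i : X.affineOpens => i) (iSup_affineOpens_eq_top X)]
  intro V
  refine ⟨IsAffineHom.isAffine_preimage _ V.2, ?_⟩
  rw [morphismRestrict_appTop]
  have hV : (V : X.Opens).ι ''ᵁ ⊤ = V := by simp
  have h1 : IsIso (f.app ((V : X.Opens).ι ''ᵁ ⊤)) :=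
    (ConcreteCategory.isIso_iff_bijective _).2 (h _ (by rw [hV]; exact V.2))
  have h2 : IsIso (Y.presheaf.map
      (eqToHom (image_morphismRestrict_preimage f (V : X.Opens) ⊤)).op) := inferInstance
  exact @IsIso.comp_isIso _ _ _ _ _ _ _ h1 h2

/-- if `O_Y → f_* O_X` is bijective on affine opens then the relative normalization of `Y` in `X`
is `Y` itself -/
theorem isIso_fromNormalization {X Y : Scheme.{u}} (f : X ⟶ Y) [QuasiCompact f] [QuasiSeparated f]
    (hO : ∀ U : Y.Opens, IsAffineOpen U → Function.Bijective (f.app U)) :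
    IsIso f.fromNormalization := by
  refine isIso_of_app_bijective_affine _ fun U hU => ?_
  rw [Scheme.Hom.fromNormalization_app f hU]
  letI := (f.app U).hom.toAlgebra
  have hb : Function.Bijective
      (algebraMap Γ(Y, U) (integralClosure Γ(Y, U) Γ(X, f ⁻¹ᵁ U))) := by
    constructor
    · intro a b hab
      apply (hO U hU).1
      exact congrArg Subtype.val hab
    · intro s
      obtain ⟨t, ht⟩ := (hO U hU).2 s.1
      exact ⟨t, Subtype.ext ht⟩
  have h1 : IsIso (CommRingCat.ofHom
      (algebraMap Γ(Y, U) (integralClosure Γ(Y, U) Γ(X, f ⁻¹ᵁ U)))) :=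
    (ConcreteCategory.isIso_iff_bijective _).2 hb
  have h3 : IsIso (CommRingCat.ofHom
      (algebraMap Γ(Y, U) (integralClosure Γ(Y, U) Γ(X, f ⁻¹ᵁ U))) ≫
        (f.normalizationObjIso hU).inv) := inferInstance
  exact (ConcreteCategory.isIso_iff_bijective _).1 h3

/-- Zariski's main theorem when `O_Y = f_* O_X`: the quasi-finite locus is the preimage of an open
of `Y` over which `f` is an isomorphism -/
theorem exists_open_isIso_and_eq_quasiFiniteLocus {X Y : Scheme.{u}} (f : X ⟶ Y)
    [LocallyOfFiniteType f] [IsSeparated f] [QuasiCompact f]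
    (hO : ∀ U : Y.Opens, IsAffineOpen U → Function.Bijective (f.app U)) :
    ∃ V : Y.Opens, IsIso (f ∣_ V) ∧ ∀ x : X, f.QuasiFiniteAt x → f x ∈ V := by
  haveI := isIso_fromNormalization f hO
  obtain ⟨U, hU, hUq⟩ := Scheme.Hom.exists_isIso_morphismRestrict_toNormalization f
  let e := asIso f.fromNormalization
  let V : Y.Opens := e.inv ⁻¹ᵁ U
  have hVU : f.fromNormalization ⁻¹ᵁ V = U := by
    simp only [V, ← Scheme.Hom.comp_preimage]
    simp [e]
  refine ⟨V, ?_, ?_⟩
  · have hf : f = f.toNormalization ≫ f.fromNormalization :=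
      (Scheme.Hom.toNormalization_fromNormalization f).symm
    have h1 : IsIso (f.toNormalization ∣_ (f.fromNormalization ⁻¹ᵁ V)) := by
      rw [hVU]; exact hU
    have h2 : IsIso (f.fromNormalization ∣_ V) := inferInstance
    have h3 : IsIso ((f.toNormalization ≫ f.fromNormalization) ∣_ V) := by
      rw [morphismRestrict_comp]; exact @IsIso.comp_isIso _ _ _ _ _ _ _ h1 h2
    have key : ∀ (g : X ⟶ Y), g = f → IsIso (g ∣_ V) → IsIso (f ∣_ V) := by
      intro g hg h; subst hg; exact h
    exact key _ hf.symm h3
  · intro x hx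
    have hx' : x ∈ (f.toNormalization ⁻¹ᵁ U).1 := by rw [hUq]; exact hx
    have : f.toNormalization x ∈ f.fromNormalization ⁻¹ᵁ V := by rw [hVU]; exact hx'
    have h4 : f.fromNormalization (f.toNormalization x) ∈ V := this
    rw [← Scheme.Hom.comp_apply, Scheme.Hom.toNormalization_fromNormalization] at h4
    exact h4

end Groth.Agent.Helper7.ZMTIso
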